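import Cfsg.Agent.Lib.Leech.U35.Data

/-!
`PSU₃(5)` is isomorphic to a group of 126000 permutations of fifty points.
-/

set_option autoImplicit false

namespace CfsgLib.Leech.U35

open CfsgLib CfsgLib.MinIndexPSU
open CfsgLib.Comp
open Matrix

/-- The six generators. -/
def g6 (k : Fin 6) : M9 := if h : (k : ℕ) < 5 then gens ⟨k, h⟩ else extra

/-- Unitary of determinant one. -/
def Good (x : M9) : Prop := x.det = 1 ∧ x.transpose.mul x.conj = M9.one

instance : DecidablePred Good := fun _ => inferInstanceAs (Decidable (_ ∧ _))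

/-- The product of a list. -/
def prodM : List M9 → M9
  | [] => M9.one
  | x :: l => x.mul (prodM l)

/-- The adjoint. -/
def adj (x : M9) : M9 := x.transpose.conj

/-- The check of one generator and one coset. -/
def cosetB (k : Fin 6) (i : Fin 50) : Bool :=
  decide ((prodM ([adj (reps.getD (PermCode.get (u35Gens.getD k 0) i) M9.one), g6 k,
    reps.getD i M9.one] ++ ((kWords.getD k []).getD i []).map gens)).IsScalar)

theorem coset_check : ∀ k i, cosetB k i = true := by decide +kernel

theorem reps_good : ∀ i : Fin 50, Good (reps.getD i M9.one) ∧ Good (adj (reps.getD i M9.one)) ∧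
    ((adj (reps.getD i M9.one)).mul (reps.getD i M9.one)).IsScalar := by decide +kernel

theorem g6_good : ∀ k, Good (g6 k) := by decide +kernel

theorem reps_zero : reps.getD 0 M9.one = M9.one := by decide +kernel

theorem u35Gens_ok : ∀ k : Fin 6, PermCode.okb 50 (u35Gens.getD k 0) = true := by decide +kernel

variable {F : Type*} [Field F] [Fintype F] (φ : R25 →+* F)
  (hφ : ∀ z, φ (star z) = φ z ^ 5) [CharP F 5]

/-- A good matrix as an element of the unitary group. -/
def su (x : M9) (hx : Good x) : Cfsg.SU 3 F 5 :=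
  ⟨⟨M9.mat φ x, by rw [M9.det_mat, hx.1, map_one]⟩, by
    have : Fact (Nat.Prime 5) := ⟨Nat.prime_five⟩
    intro u v
    set A := M9.mat φ x with hA
    show Cfsg.hermForm 3 F 5 (A *ᵥ u) (A *ᵥ v) = _
    have h5 : ∀ j, (A *ᵥ v) j ^ 5 = (M9.mat φ x.conj *ᵥ fun k => v k ^ 5) j := by
      intro j
      rw [Matrix.mulVec, dotProduct, sum_pow_char 5, Matrix.mulVec, dotProduct]
      refine Finset.sum_congr rfl fun k _ => ?_
      rw [mul_pow, hA]
      congr 1
      fin_cases j <;> fin_cases k <;> simp [M9.mat, M9.conj, hφ]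
    show (A *ᵥ u) ⬝ᵥ (fun j => (A *ᵥ v) j ^ 5) = u ⬝ᵥ fun j => v j ^ 5
    rw [funext h5]
    conv_rhs => rw [← Matrix.one_mulVec (fun j => v j ^ 5), ← M9.mat_one φ, ← hx.2,
      M9.mat_mul, M9.mat_transpose, ← Matrix.mulVec_mulVec, Matrix.dotProduct_mulVec,
      Matrix.vecMul_transpose, ← hA]⟩

/-- A good matrix in the projective group. -/
noncomputable def el (x : M9) : Cfsg.PSU 3 F 5 :=
  if h : Good x then QuotientGroup.mk' _ (su φ hφ x h) else 1

theorem el_gens (i : Fin 5) : el φ hφ (gens i) = img φ hφ [i] := by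
  rw [el, dif_pos ⟨gens_det i, gens_unitary i⟩, img]
  congr 1
  simp only [wordEl, List.map_cons, List.map_nil, List.prod_cons, List.prod_nil, mul_one]
  rfl

theorem el_list : ∀ L : List M9, (∀ x ∈ L, Good x) → ∃ y : Cfsg.SU 3 F 5,
    (y.1 : Matrix (Fin 3) (Fin 3) F) = M9.mat φ (prodM L) ∧
      (L.map (el φ hφ)).prod = QuotientGroup.mk' _ y
  | [], _ => ⟨1, by simp [prodM, M9.mat_one], by simp⟩
  | x :: L, h => by
    obtain ⟨y, hy, hp⟩ := el_list L fun z hz => h z (List.mem_cons_of_mem _ hz)
    refine ⟨su φ hφ x (h x List.mem_cons_self) * y, ?_, ?_⟩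
    · rw [prodM, M9.mat_mul, ← hy]; rfl
    · rw [List.map_cons, List.prod_cons, hp, el, dif_pos (h x List.mem_cons_self), ← map_mul]

theorem list_eq_one {L : List M9} (h : ∀ x ∈ L, Good x) (hs : (prodM L).IsScalar) :
    (L.map (el φ hφ)).prod = 1 := by
  obtain ⟨y, hy, hp⟩ := el_list φ hφ L h
  rw [hp, QuotientGroup.mk'_apply, QuotientGroup.eq_one_iff, Subgroup.mem_center_iff]
  intro g
  refine Subtype.ext (Subtype.ext ?_)
  show g.1.1 * y.1.1 = y.1.1 * g.1.1
  rw [hy, M9.mat_scalar φ hs, mul_smul_comm, smul_mul_assoc, one_mul, mul_one]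

theorem list_ne_one (hinj : Function.Injective φ) {L : List M9} (h : ∀ x ∈ L, Good x)
    (hc : ∃ i : Fin 5, (gens i).mul (prodM L) ≠ (prodM L).mul (gens i)) :
    (L.map (el φ hφ)).prod ≠ 1 := by
  obtain ⟨y, hy, hp⟩ := el_list φ hφ L h
  intro h1
  rw [hp, QuotientGroup.mk'_apply, QuotientGroup.eq_one_iff, Subgroup.mem_center_iff] at h1
  obtain ⟨i, hi⟩ := hc
  apply hi
  apply M9.mat_injective φ hinj
  rw [M9.mat_mul, M9.mat_mul, ← hy]
  exact congrArg (fun z : Cfsg.SU 3 F 5 => z.1.1)
    (h1 (su φ hφ (gens i) ⟨gens_det i, gens_unitary i⟩))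

/-- The subgroup of index fifty. -/
noncomputable def K50 : Subgroup (Cfsg.PSU 3 F 5) := Present.firstGen (seq φ hφ) 5

theorem el_gens_mem (i : Fin 5) : el φ hφ (gens i) ∈ K50 φ hφ := by
  rw [el_gens]; exact img_mem φ hφ [i]

theorem card_psu_five (hF : Fintype.card F = 25) : Nat.card (Cfsg.PSU 3 F 5) = 126000 := by
  have := Classical.Herm.card_psu (show Fintype.card F = 5 ^ 2 from hF) (n := 3) (by norm_num)
  simp [Finset.prod_range_succ, Nat.even_iff] at this
  omega

theorem index_K50 (hinj : Function.Injective φ) (hF : Fintype.card F = 25) :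
    Nat.card (K50 φ hφ) = 2520 ∧ (K50 φ hφ).index = 50 := by
  have hdvd := card_dvd_firstGen φ hφ hinj
  have hle := (Present.firstGen_bound (altRel_seq φ hφ) 5 le_rfl).2
  rw [show Nat.factorial (5 + 2) = 5040 by decide] at hle
  have h1 : Nat.card (K50 φ hφ) = (K50 φ hφ : Set (Cfsg.PSU 3 F 5)).ncard := rfl
  have h2 : 2520 ≤ Nat.card (K50 φ hφ) := Nat.le_of_dvd Nat.card_pos hdvd
  change 2 * (K50 φ hφ : Set (Cfsg.PSU 3 F 5)).ncard ≤ 5040 at hle
  have h3 : Nat.card (K50 φ hφ) = 2520 := by omega
  refine ⟨h3, ?_⟩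
  have := (K50 φ hφ).index_mul_card
  rw [h3, card_psu_five hF] at this
  omega

/-- The six generators in the projective group. -/
noncomputable def G6 (k : Fin 6) : Cfsg.PSU 3 F 5 := el φ hφ (g6 k)

theorem mem_closure_G6 (k : Fin 6) : G6 φ hφ k ∈ Subgroup.closure (Set.range (G6 φ hφ)) :=
  Subgroup.subset_closure ⟨k, rfl⟩

theorem K50_le : K50 φ hφ ≤ Subgroup.closure (Set.range (G6 φ hφ)) := by
  rw [K50, Present.firstGen, Subgroup.closure_le]
  rintro _ ⟨i, hi, rfl⟩
  simp only [Set.mem_setOf_eq] at hi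
  rw [show i = ((⟨i, hi⟩ : Fin 5) : ℕ) from rfl, seq_coe, ← el_gens]
  have := mem_closure_G6 φ hφ ⟨i, by omega⟩
  rwa [G6, g6, dif_pos hi] at this

theorem closure_G6 (hinj : Function.Injective φ) (hF : Fintype.card F = 25) :
    Subgroup.closure (Set.range (G6 φ hφ)) = ⊤ := by
  by_contra hne
  set S := Subgroup.closure (Set.range (G6 φ hφ))
  have hidx := fifty_le_index hF S hne
  have hS := S.index_mul_card
  rw [card_psu_five hF] at hS
  have hK := (index_K50 φ hφ hinj hF).1
  have h1 : 2520 ≤ Nat.card S := hK ▸ Subgroup.card_le_of_le (K50_le φ hφ)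
  have h2 : 50 * Nat.card S ≤ 126000 := hS ▸ Nat.mul_le_mul_right _ hidx
  have hgood : ∀ x ∈ [gens 0, gens 1, gens 2, extra], Good x := by decide +kernel
  have hw : ([gens 0, gens 1, gens 2].map (el φ hφ)).prod = img φ hφ [0, 1, 2] := by
    simp only [List.map_cons, List.map_nil, List.prod_cons, List.prod_nil, mul_one, el_gens,
      ← img_append, List.cons_append, List.nil_append]
  set a := img φ hφ [0, 1, 2]
  set b := el φ hφ extra with hb
  have ha : a ∈ S := K50_le φ hφ (img_mem φ hφ [0, 1, 2])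
  have hbS : b ∈ S := by
    have := mem_closure_G6 φ hφ 5
    rwa [G6, g6, dif_neg (by decide)] at this
  have ho : orderOf a = 5 :=
    orderOf_img_prime φ hφ hinj Nat.prime_five (by decide +kernel) (by decide +kernel)
  have ha5 : a ^ 5 = 1 := orderOf_dvd_iff_pow_eq_one.1 ho.dvd
  have hb5 : b ^ 5 = 1 := by
    have := list_eq_one φ hφ (L := List.replicate 5 extra)
      (fun x hx => by rw [List.eq_of_mem_replicate hx]; exact hgood _ (by simp)) (by decide +kernel)
    rwa [List.map_replicate, List.prod_replicate] at this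
  have hnz : b ∉ Subgroup.zpowers a := by
    refine not_mem_zpowers_of (by norm_num : 0 < 5) ha5 fun i hi => ?_
    have e : ((List.replicate i [gens 0, gens 1, gens 2]).flatten ++ [extra]).map (el φ hφ) =
        (List.replicate i ([gens 0, gens 1, gens 2].map (el φ hφ))).flatten ++ [b] := by
      simp [List.map_flatten, List.map_replicate, hb]
    have hne' := list_ne_one φ hφ hinj
      (L := (List.replicate i [gens 0, gens 1, gens 2]).flatten ++ [extra])
      (fun x hx => hgood x (by
        simp only [List.mem_append, List.mem_flatten, List.mem_singleton] at hx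
        rcases hx with ⟨l, hl, hxl⟩ | rfl
        · rw [List.eq_of_mem_replicate hl] at hxl; simp at hxl ⊢; tauto
        · simp))
      (by interval_cases i <;> decide +kernel)
    rw [e, List.prod_append, List.prod_flatten, List.map_replicate, List.prod_replicate, hw] at hne'
    simpa using hne'
  have hconj : b * a * b⁻¹ ∈ Subgroup.zpowers a := by
    have h := list_eq_one φ hφ
      (L := [extra, gens 0, gens 1, gens 2] ++ List.replicate 4 extra ++
        (List.replicate 4 [gens 0, gens 1, gens 2]).flatten)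
      (fun x hx => hgood x (by simp [List.replicate] at hx ⊢; tauto)) (by decide +kernel)
    rw [List.map_append, List.map_append, List.prod_append, List.prod_append, List.map_cons,
      List.prod_cons, hw, List.map_replicate, List.prod_replicate, List.map_flatten,
      List.prod_flatten, List.map_replicate, List.map_replicate, List.prod_replicate, hw, ← hb] at h
    have hb4 : b ^ 4 = b⁻¹ := eq_inv_of_mul_eq_one_left (by rw [← pow_succ]; exact hb5)
    have ha4 : a ^ 4 = a⁻¹ := eq_inv_of_mul_eq_one_left (by rw [← pow_succ]; exact ha5)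
    rw [hb4, ha4, mul_inv_eq_one] at h
    rw [h]; exact Subgroup.mem_zpowers a
  have h25 := orderOf_dvd_card_mul ha hbS Nat.prime_five hb5 hnz hconj
  rw [ho] at h25
  have : Nat.card S = 2520 := by omega
  rw [this] at h25
  omega

/-- The fifty cosets. -/
noncomputable def cosetOf (i : Fin 50) : Cfsg.PSU 3 F 5 ⧸ K50 φ hφ :=
  QuotientGroup.mk (el φ hφ (reps.getD i M9.one))

theorem smul_cosetOf (k : Fin 6) (i : Fin 50) :
    G6 φ hφ k • cosetOf φ hφ i = cosetOf φ hφ (PermCode.val 50 (u35Gens.getD k 0) i) := by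
  set j := PermCode.val 50 (u35Gens.getD k 0) i
  have hj : (j : ℕ) = PermCode.get (u35Gens.getD k 0) i :=
    PermCode.val_apply (PermCode.ok_of_okb (u35Gens_ok k)) i
  have hc := coset_check k i
  simp only [cosetB, decide_eq_true_eq, ← hj] at hc
  set rj := reps.getD j M9.one
  set ri := reps.getD i M9.one
  set w := (kWords.getD k []).getD i []
  obtain ⟨hj1, hj2, hj3⟩ := reps_good j
  have h := list_eq_one φ hφ (L := [adj rj, g6 k, ri] ++ w.map gens) (fun x hx => by
    simp only [List.mem_append, List.mem_cons, List.not_mem_nil, or_false, List.mem_map] at hx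
    rcases hx with (rfl | rfl | rfl) | ⟨i', -, rfl⟩
    · exact hj2
    · exact g6_good k
    · exact (reps_good i).1
    · exact ⟨gens_det i', gens_unitary i'⟩) hc
  have hinv : el φ hφ (adj rj) * el φ hφ rj = 1 := by
    have := list_eq_one φ hφ (L := [adj rj, rj]) (fun x hx => by
      simp only [List.mem_cons, List.not_mem_nil, or_false] at hx
      rcases hx with rfl | rfl
      exacts [hj2, hj1]) (by
        have e : prodM [adj rj, rj] = (adj rj).mul rj := by
          simp only [prodM]; congr 1; exact M9.mat_injective (RingHom.id R25) Function.injective_id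
            (by rw [M9.mat_mul, M9.mat_one, mul_one])
        rw [e]; exact hj3)
    simpa using this
  have hw : ((w.map gens).map (el φ hφ)).prod ∈ K50 φ hφ := by
    refine Subgroup.list_prod_mem _ fun x hx => ?_
    simp only [List.map_map, List.mem_map, Function.comp] at hx
    obtain ⟨i', -, rfl⟩ := hx
    exact el_gens_mem φ hφ i'
  rw [List.map_append, List.prod_append] at h
  simp only [List.map_cons, List.map_nil, List.prod_cons, List.prod_nil, mul_one,
    eq_inv_of_mul_eq_one_left hinv] at h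
  rw [cosetOf, cosetOf, MulAction.Quotient.smul_mk]
  refine (QuotientGroup.eq.2 ?_).symm
  show (el φ hφ rj)⁻¹ * (G6 φ hφ k • el φ hφ ri) ∈ K50 φ hφ
  rw [smul_eq_mul, G6, eq_inv_of_mul_eq_one_left h]
  exact inv_mem hw

theorem cosetOf_surjective (hinj : Function.Injective φ) (hF : Fintype.card F = 25) :
    Function.Surjective (cosetOf φ hφ) := by
  classical
  set R := Set.range (cosetOf φ hφ)
  have hstab : ∀ g : Cfsg.PSU 3 F 5, ∀ x ∈ R, g • x ∈ R := by
    have hmem : ∀ g ∈ Submonoid.closure (Set.range (G6 φ hφ)), ∀ x ∈ R, g • x ∈ R := by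
      intro g hg
      induction hg using Submonoid.closure_induction with
      | mem g hg =>
        obtain ⟨k, rfl⟩ := hg
        rintro _ ⟨i, rfl⟩
        exact ⟨_, (smul_cosetOf φ hφ k i).symm⟩
      | one => intro x hx; rwa [one_smul]
      | mul a b _ _ iha ihb => intro x hx; rw [mul_smul]; exact iha _ (ihb x hx)
    intro g
    refine hmem g ?_
    rw [← Subgroup.closure_toSubmonoid_of_finite, closure_G6 φ hφ hinj hF]
    exact Subgroup.mem_top g
  intro x
  obtain ⟨g, rfl⟩ := QuotientGroup.mk_surjective x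
  have h0 : (QuotientGroup.mk (1 : Cfsg.PSU 3 F 5) : Cfsg.PSU 3 F 5 ⧸ K50 φ hφ) ∈ R := by
    refine ⟨0, ?_⟩
    rw [cosetOf, Fin.val_zero, reps_zero]
    congr 1
    simpa using list_eq_one φ hφ (L := [M9.one]) (fun x hx => by
      rw [List.mem_singleton.1 hx]; decide +kernel) (by decide +kernel)
  have := hstab g _ h0
  rwa [MulAction.Quotient.smul_mk, smul_eq_mul, mul_one] at this

omit φ hφ [CharP F 5] in
/-- `PSU₃(5)` as a group of permutations of fifty points. -/
theorem psu_equiv_span (hF : Fintype.card F = 25) :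
    Nonempty (Cfsg.PSU 3 F 5 ≃* PermCode.span 50 u35Gens) := by
  obtain ⟨φ, hinj, hφ⟩ := exists_embedding hF
  have : CharP F 5 := by
    rw [CharP.charP_iff_prime_eq_zero Nat.prime_five]
    have h : φ 5 = 0 := by rw [show (5 : R25) = 0 by decide +kernel, map_zero]
    rwa [map_ofNat] at h
  have hbij : Function.Bijective (cosetOf φ hφ) :=
    (Nat.bijective_iff_surjective_and_card _).2 ⟨cosetOf_surjective φ hφ hinj hF, by
      rw [Nat.card_eq_fintype_card, Fintype.card_fin, ← Subgroup.index, (index_K50 φ hφ hinj hF).2]⟩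
  let e := Equiv.ofBijective _ hbij
  let ψ : Cfsg.PSU 3 F 5 →* Equiv.Perm (Fin 50) :=
    e.symm.permCongrHom.toMonoidHom.comp (MulAction.toPermHom _ _)
  have hψ : ∀ k, ψ (G6 φ hφ k) = PermCode.val 50 (u35Gens.getD k 0) := by
    intro k
    refine Equiv.ext fun i => e.injective ?_
    show e (e.symm (G6 φ hφ k • e i)) = _
    rw [Equiv.apply_symm_apply]
    exact smul_cosetOf φ hφ k i
  have hlen : u35Gens.length = 6 := rfl
  have hrange : ψ.range = PermCode.span 50 u35Gens := by
    rw [MonoidHom.range_eq_map, ← closure_G6 φ hφ hinj hF, MonoidHom.map_closure, PermCode.span]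
    congr 1
    ext g
    constructor
    · rintro ⟨_, ⟨k, rfl⟩, rfl⟩
      refine ⟨_, ?_, (hψ k).symm⟩
      rw [List.getD_eq_getElem _ _ (by omega)]
      exact List.getElem_mem _
    · rintro ⟨s, hs, rfl⟩
      obtain ⟨n, hn, rfl⟩ := List.getElem_of_mem hs
      refine ⟨_, ⟨⟨n, by omega⟩, rfl⟩, ?_⟩
      rw [hψ, List.getD_eq_getElem _ _ hn]
  have hinjψ : Function.Injective ψ := by
    have hb : Function.Bijective ψ.rangeRestrict :=
      (Nat.bijective_iff_surjective_and_card _).2 ⟨ψ.rangeRestrict_surjective, by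
        rw [card_psu_five hF, hrange, u35_card]⟩
    exact fun a b h => hb.1 (Subtype.ext h)
  exact ⟨(MonoidHom.ofInjective hinjψ).trans (MulEquiv.subgroupCongr hrange)⟩

end CfsgLib.Leech.U35
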