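import Cfsg.Agent.Lib.Leech.U35.LatData
import Cfsg.Agent.Lib.Leech.U35.Psu
import Cfsg.Agent.Lib.Leech.Stab.HSOrbits
import Cfsg.Agent.Lib.Leech.Stab.Bounds
import Cfsg.Agent.Lib.Leech.Simple.Pairs

/-!
The configuration of 352 minimal vectors of a Higman–Sims pair and the stabiliser `PSU₃(5)`.
-/

set_option autoImplicit false

namespace CfsgLib.Leech.U35

open Cfsg CfsgLib
open CfsgLib.Leech.Stab
open CfsgLib.Comp

/-- The configuration. -/
def set352 (v w : leechLattice) : Set leechLattice :=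
  {x | sqNorm (x : GolayPt → ℤ) = 32 ∧ dotInt (v : GolayPt → ℤ) (x : GolayPt → ℤ) = 16 ∧
    dotInt (w : GolayPt → ℤ) (x : GolayPt → ℤ) = -24}

theorem mem_set352_pt {x : leechLattice} : x ∈ set352 ptU ptW ↔ -x ∈ eleven352Cert.set := by
  have e : (ptW : GolayPt → ℤ) = -(ptU : GolayPt → ℤ) + -(ptM : GolayPt → ℤ) := by
    rw [← pt_dots.2.2.2.2.2.2.2.2.2.2, AddSubgroup.coe_sub, AddSubgroup.coe_neg, sub_eq_add_neg]
  have hc : -x ∈ eleven352Cert.set ↔ sqNorm (x : GolayPt → ℤ) = 32 ∧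
      dotInt (-(x : GolayPt → ℤ)) (ptU : GolayPt → ℤ) = -16 ∧
      dotInt (-(x : GolayPt → ℤ)) (ptM : GolayPt → ℤ) = -8 := by
    simp [Cert.set, eleven352Cert, ptU, ptM, AddSubgroup.coe_neg, sqNorm_neg]
  rw [hc]
  show _ ∧ _ ∧ _ ↔ _
  rw [e, dot_add_left, dot_neg_left, dot_neg_left, dot_neg_left, dot_neg_left,
    dot_comm (x : GolayPt → ℤ), dot_comm (x : GolayPt → ℤ)]
  constructor <;> rintro ⟨a, b, c⟩ <;> exact ⟨a, by omega, by omega⟩

theorem eleven352_count : eleven352Cert.set.ncard = 352 :=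
  (cert_sound eleven352_base eleven352_tree eleven352_nodup eleven_parts.1).1.trans (by decide +kernel)

theorem ncard_set352_pt : (set352 ptU ptW).ncard = 352 := by
  have e : set352 ptU ptW = (fun x => -x) '' eleven352Cert.set := by
    ext x
    rw [mem_set352_pt]
    exact ⟨fun h => ⟨-x, h, neg_neg x⟩, by rintro ⟨y, hy, rfl⟩; rwa [neg_neg]⟩
  rw [e, Set.ncard_image_of_injective _ neg_injective, eleven352_count]

theorem transitive352_pt {x x' : leechLattice} (hx : x ∈ set352 ptU ptW)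
    (hx' : x' ∈ set352 ptU ptW) : ∃ g : Co0, g • ptU = ptU ∧ g • ptW = ptW ∧ g • x = x' := by
  obtain ⟨g, hg, hgx⟩ := cert_transitive eleven352_base eleven352_tree eleven352_nodup eleven_parts.1
    (mem_set352_pt.1 hx) (mem_set352_pt.1 hx')
  have hU : g • ptU = ptU := hg (_, -16) (by simp [eleven352Cert])
  have hM : g • ptM = ptM := hg (_, -8) (by simp [eleven352Cert])
  refine ⟨g, hU, ?_, ?_⟩
  · rw [← pt_dots.2.2.2.2.2.2.2.2.2.2, sub_eq_add_neg, smul_add', smul_neg', smul_neg', hU, hM]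
  · rwa [smul_neg', neg_inj] at hgx

variable {v w : leechLattice}

theorem smul_mem_set352 (g : Co0) (y : leechLattice) :
    g • y ∈ set352 (g • v) (g • w) ↔ y ∈ set352 v w := by
  show _ ∧ _ ∧ _ ↔ _ ∧ _ ∧ _
  rw [sqNorm_smul, dotInt_smul, dotInt_smul]

theorem ncard_set352 (hv : sqNorm (v : GolayPt → ℤ) = 48) (hw : sqNorm (w : GolayPt → ℤ) = 48)
    (hvw : dotInt (v : GolayPt → ℤ) (w : GolayPt → ℤ) = -32) : (set352 v w).ncard = 352 := by
  obtain ⟨g, hg, hgw⟩ := normal_hs hv hw hvw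
  refine (ncard_eq_of_smul g fun y => ?_).trans ncard_set352_pt
  rw [← hg, ← hgw]; exact smul_mem_set352 g y

theorem transitive352 (hv : sqNorm (v : GolayPt → ℤ) = 48) (hw : sqNorm (w : GolayPt → ℤ) = 48)
    (hvw : dotInt (v : GolayPt → ℤ) (w : GolayPt → ℤ) = -32) {x x' : leechLattice}
    (hx : x ∈ set352 v w) (hx' : x' ∈ set352 v w) :
    ∃ g : Co0, g • v = v ∧ g • w = w ∧ g • x = x' := by
  obtain ⟨g, hg, hgw⟩ := normal_hs hv hw hvw
  obtain ⟨k, k1, k2, k3⟩ := transitive352_pt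
    (hg ▸ hgw ▸ (smul_mem_set352 g x).2 hx) (hg ▸ hgw ▸ (smul_mem_set352 g x').2 hx')
  refine ⟨g⁻¹ * k * g, ?_, ?_, ?_⟩
  · rw [mul_smul, mul_smul, hg, k1, ← hg, inv_smul_smul]
  · rw [mul_smul, mul_smul, hgw, k2, ← hgw, inv_smul_smul]
  · rw [mul_smul, mul_smul, k3, inv_smul_smul]

theorem partner_mem (hw : sqNorm (w : GolayPt → ℤ) = 48)
    (hvw : dotInt (v : GolayPt → ℤ) (w : GolayPt → ℤ) = -32) {x : leechLattice}
    (hx : x ∈ set352 v w) : -w - x ∈ set352 v w := by
  obtain ⟨hn, h1, h2⟩ := hx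
  have e : ((-w - x : leechLattice) : GolayPt → ℤ) = -(w : GolayPt → ℤ) + -(x : GolayPt → ℤ) := by
    rw [AddSubgroup.coe_sub, AddSubgroup.coe_neg, sub_eq_add_neg]
  refine ⟨?_, ?_, ?_⟩ <;> rw [e]
  · rw [sqNorm_add, sqNorm_neg, sqNorm_neg, hn, hw, dot_neg_left, dot_comm, dot_neg_left, dot_comm, h2]
    norm_num
  · rw [dot_comm, dot_add_left, dot_neg_left, dot_neg_left, dot_comm, hvw, dot_comm, h1]
    norm_num
  · rw [dot_comm, dot_add_left, dot_neg_left, dot_neg_left, dotInt_self, hw, dot_comm, h2]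
    norm_num

/-- The base point of the configuration. -/
noncomputable def ptY : leechLattice := lat codeX

/-- The stabiliser of the three base vectors. -/
noncomputable def hStab : Subgroup Co0 :=
  MulAction.stabilizer Co0 ptU ⊓ MulAction.stabilizer Co0 ptW ⊓ MulAction.stabilizer Co0 ptY

theorem base_checks : slpB hSlp = true ∧ latB codeX = true ∧ pts.all latB = true ∧
    nodupB pts .leaf = true := by decide +kernel

theorem ptY_dots : sqNorm (ptY : GolayPt → ℤ) = 32 ∧
    dotInt (ptY : GolayPt → ℤ) (ptU : GolayPt → ℤ) = 16 ∧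
    dotInt (ptY : GolayPt → ℤ) (ptW : GolayPt → ℤ) = -24 := by
  obtain ⟨h1, -, -, h4, -⟩ := pt_checks
  simp only [ptY, ptU, ptW, ← dotInt_self, dot_lat base_checks.2.1 h1, dot_lat base_checks.2.1 h4,
    dot_lat base_checks.2.1 base_checks.2.1]
  decide +kernel

theorem ptY_mem : ptY ∈ set352 ptU ptW :=
  ⟨ptY_dots.1, (dot_comm _ _).trans ptY_dots.2.1, (dot_comm _ _).trans ptY_dots.2.2⟩

theorem card_hStab : Nat.card hStab = 126000 := by
  set P := pairStab ptU ptW
  have hU := pt_dots.1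
  have hW := pt_dots.2.2.2.1
  have hd : dotInt (ptU : GolayPt → ℤ) (ptW : GolayPt → ℤ) = -32 := by
    obtain ⟨h1, -, -, h4, -⟩ := pt_checks
    simp only [ptU, ptW, dot_lat h1 h4]
    decide +kernel
  have hP : Nat.card P = 44352000 := card_pair_hs hU hW hd
  have hst : MulAction.stabilizer P ptY = hStab.subgroupOf P := by
    ext g
    rw [MulAction.mem_stabilizer_iff, Subgroup.mem_subgroupOf]
    exact ⟨fun h => ⟨g.2, h⟩, fun h => h.2⟩
  have horb : MulAction.orbit P ptY = set352 ptU ptW := by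
    ext x
    constructor
    · rintro ⟨g, rfl⟩
      have e1 : (g : Co0) • ptU = ptU := g.2.1
      have e2 : (g : Co0) • ptW = ptW := g.2.2
      have := (smul_mem_set352 (v := ptU) (w := ptW) (g : Co0) ptY).2 ptY_mem
      rwa [e1, e2] at this
    · intro hx
      obtain ⟨g, h1, h2, h3⟩ := transitive352_pt ptY_mem hx
      exact ⟨⟨g, h1, h2⟩, h3⟩
  have h := Subgroup.card_mul_index (MulAction.stabilizer P ptY)
  rw [MulAction.index_stabilizer, horb, ncard_set352_pt, hst, Nat.card_congr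
    (Subgroup.subgroupOfEquivOfLe (show hStab ≤ P from inf_le_left)).toEquiv, hP] at h
  exact Nat.eq_of_mul_eq_mul_right (m := 352) (by norm_num) (h.trans (by norm_num))

/-- The fifty vectors. -/
noncomputable def vecAt (i : Fin 50) : leechLattice := lat (pts.getD i 0)

/-- The set of the fifty vectors. -/
def set50 : Set leechLattice :=
  {y | y ∈ hS100Cert.set ∧ dotInt (y : GolayPt → ℤ) (ptY : GolayPt → ℤ) = 8}

theorem pts_length : pts.length = 50 := rfl

theorem pts_facts : ∀ i : Fin 50, latB (pts.getD i 0) = true ∧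
    dotZ (dig 24 (pts.getD i 0)) (dig 24 (pts.getD i 0)) = 32 ∧
    dotZ (dig 24 (pts.getD i 0)) (dig 24 477021337197006099550156565987704303) = 24 ∧
    dotZ (dig 24 (pts.getD i 0)) (dig 24 728931481559469994818216774992447029) = -24 ∧
    dotZ (dig 24 (pts.getD i 0)) (dig 24 codeX) = 8 := by decide +kernel

theorem hs_filter : (hS100Cert.codes.all fun n =>
    dotZ (dig 24 n) (dig 24 codeX) != 8 || pts.contains n) = true := by decide +kernel

theorem vecAt_mem (i : Fin 50) : vecAt i ∈ set50 := by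
  obtain ⟨h0, h1, h2, h3, h4⟩ := pts_facts i
  obtain ⟨c1, -, -, c4, -⟩ := pt_checks
  refine ⟨mem_hs.2 ⟨?_, ?_, ?_⟩, ?_⟩
  · rw [← dotInt_self, vecAt, dot_lat h0 h0, h1]
  · rw [vecAt, ptU, dot_lat h0 c1, h2]
  · rw [vecAt, ptW, dot_lat h0 c4, h3]
  · rw [vecAt, ptY, dot_lat h0 base_checks.2.1, h4]

theorem vecAt_injective : Function.Injective vecAt := by
  intro i j h
  have e := congrArg (fun x : leechLattice => listOf (x : GolayPt → ℤ)) h
  simp only [vecAt, (listOf_lat (pts_facts i).1).1, (listOf_lat (pts_facts j).1).1] at e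
  have key : ∀ i j : Fin 50, dig 24 (pts.getD i 0) = dig 24 (pts.getD j 0) → i = j := by
    decide +kernel
  exact key i j e

theorem vecAt_surjective {y : leechLattice} (hy : y ∈ set50) : ∃ i, vecAt i = y := by
  obtain ⟨hy, hd⟩ := hy
  obtain ⟨n, hn, hrep⟩ := (cert_sound hS100_base hS100_tree hS100_nodup hS100_bound).2.2 y hy
  have hdig := dig_of_rep hrep (by rw [hy.1]; norm_num)
  have h8 : dotZ (dig 24 n) (dig 24 codeX) = 8 := by
    rw [hdig, ← (listOf_lat base_checks.2.1).1, dotZ_listOf]; exact hd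
  have := List.all_eq_true.1 hs_filter n hn
  simp only [h8, bne_self_eq_false, Bool.false_or, List.contains_iff_mem] at this
  obtain ⟨i, hi, rfl⟩ := List.getElem_of_mem this
  refine ⟨⟨i, pts_length ▸ hi⟩, ?_⟩
  have hl := listOf_lat (pts_facts ⟨i, pts_length ▸ hi⟩).1
  refine Subtype.ext (rep_inj (n := pts[i]) ?_ hrep hl.2.2 (by rw [hy.1]; norm_num))
  have h2 := hl.2.1
  rw [List.getD_eq_getElem _ _ hi] at h2
  rw [vecAt, List.getD_eq_getElem _ _ hi]
  exact h2

/-- The fifty vectors, numbered. -/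
noncomputable def vecEquiv : Fin 50 ≃ set50 :=
  Equiv.ofBijective (fun i => ⟨vecAt i, vecAt_mem i⟩)
    ⟨fun _ _ h => vecAt_injective (congrArg Subtype.val h), fun y =>
      (vecAt_surjective y.2).imp fun _ h => Subtype.ext h⟩

theorem smul_set50 (g : hStab) {y : leechLattice} (hy : y ∈ set50) : (g : Co0) • y ∈ set50 := by
  obtain ⟨⟨hu, hw⟩, hx⟩ := g.2
  refine ⟨?_, by rw [← show (g : Co0) • ptY = ptY from hx, dotInt_smul]; exact hy.2⟩
  have h := mem_hs.1 hy.1
  refine mem_hs.2 ⟨(sqNorm_smul _ _).trans h.1, ?_, ?_⟩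
  · rw [← show (g : Co0) • ptU = ptU from hu, dotInt_smul]; exact h.2.1
  · rw [← show (g : Co0) • ptW = ptW from hw, dotInt_smul]; exact h.2.2

/-- The permutation of the fifty vectors. -/
noncomputable def permVec : hStab →* Equiv.Perm (Fin 50) :=
  MonoidHom.mk' (fun g => vecEquiv.symm.permCongr
    { toFun := fun y => ⟨(g : Co0) • (y : leechLattice), smul_set50 g y.2⟩
      invFun := fun y => ⟨((g⁻¹ : hStab) : Co0) • (y : leechLattice), smul_set50 g⁻¹ y.2⟩
      left_inv := fun y => Subtype.ext (by simp)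
      right_inv := fun y => Subtype.ext (by simp) }) fun a b => by
    refine Equiv.ext fun i => vecEquiv.injective (Subtype.ext ?_)
    simp [Equiv.permCongr_apply, mul_smul]

theorem vecEquiv_permVec (g : hStab) (i : Fin 50) :
    vecAt (permVec g i) = (g : Co0) • vecAt i := by
  have h : (vecEquiv (permVec g i) : leechLattice) = (g : Co0) • (vecEquiv i : leechLattice) := by
    simp [permVec, Equiv.permCongr_apply]
  exact h

/-- The check of a generator. -/
def genB (k : Fin 6) : Bool :=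
  let c := colsAt hSlp (hGens.getD k 0)
  Nat.blt (hGens.getD k 0) hSlp.length &&
    applyB c 477021337197006099550156565987704303 477021337197006099550156565987704303 &&
    applyB c 728931481559469994818216774992447029 728931481559469994818216774992447029 &&
    applyB c codeX codeX &&
    (List.range 50).all fun i =>
      applyB c (pts.getD i 0) (pts.getD (PermCode.get (u35Gens.getD k 0) i) 0)

theorem gen_check : ∀ k, genB k = true := by decide +kernel

theorem exists_gen (k : Fin 6) : ∃ g : hStab, permVec g = PermCode.val 50 (u35Gens.getD k 0) := by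
  have h := gen_check k
  simp only [genB, Bool.and_eq_true, Nat.blt_eq, List.all_eq_true, List.mem_range] at h
  obtain ⟨⟨⟨⟨hlt, hu⟩, hw⟩, hx⟩, hp⟩ := h
  obtain ⟨g, hg⟩ := slp_sound base_checks.1 _ hlt
  have fix : ∀ n, latB n = true → applyB (colsAt hSlp (hGens.getD k 0)) n n = true →
      g • lat n = lat n := by
    intro n hn ha
    obtain ⟨-, hl2, hl3⟩ := listOf_lat hn
    refine Subtype.ext (rep_inj (rep_smul hg hl2 hl3 (applyC_of_applyB ha)) hl2 ?_ hl3)
    rw [sqNorm_smul]; exact hl3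
  obtain ⟨c1, -, -, c4, -⟩ := pt_checks
  refine ⟨⟨g, ⟨fix _ c1 hu, fix _ c4 hw⟩, fix _ base_checks.2.1 hx⟩, Equiv.ext fun i => ?_⟩
  refine vecAt_injective ?_
  rw [vecEquiv_permVec]
  set j := PermCode.val 50 (u35Gens.getD k 0) i
  have hj : (j : ℕ) = PermCode.get (u35Gens.getD k 0) i :=
    PermCode.val_apply (PermCode.ok_of_okb (u35Gens_ok k)) i
  obtain ⟨-, hi2, hi3⟩ := listOf_lat (pts_facts i).1
  obtain ⟨-, hj2, hj3⟩ := listOf_lat (pts_facts j).1
  have ha := hp i i.2
  rw [← hj] at ha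
  refine Subtype.ext (rep_inj (rep_smul hg hi2 hi3 (applyC_of_applyB ha)) hj2 ?_ hj3)
  rw [sqNorm_smul]; exact hi3

theorem hStab_equiv_span : Nonempty (hStab ≃* PermCode.span 50 u35Gens) := by
  have hle : PermCode.span 50 u35Gens ≤ permVec.range := by
    rw [PermCode.span, Subgroup.closure_le]
    rintro _ ⟨s, hs, rfl⟩
    obtain ⟨n, hn, rfl⟩ := List.getElem_of_mem hs
    obtain ⟨g, hg⟩ := exists_gen ⟨n, hn⟩
    exact ⟨g, by rw [hg, List.getD_eq_getElem _ _ hn]⟩
  have hle' : Nat.card permVec.range ≤ 126000 :=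
    card_hStab ▸ Nat.card_le_card_of_surjective _ permVec.rangeRestrict_surjective
  have heq : PermCode.span 50 u35Gens = permVec.range :=
    Subgroup.eq_of_le_of_card_ge hle (u35_card ▸ hle')
  have hb : Function.Bijective permVec.rangeRestrict :=
    (Nat.bijective_iff_surjective_and_card _).2 ⟨permVec.rangeRestrict_surjective, by
      rw [card_hStab, ← heq, u35_card]⟩
  exact ⟨(MonoidHom.ofInjective fun a b h => hb.1 (Subtype.ext h)).trans
    (MulEquiv.subgroupCongr heq.symm)⟩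

theorem stabilizer_psu (hv : sqNorm (v : GolayPt → ℤ) = 48) (hw : sqNorm (w : GolayPt → ℤ) = 48)
    (hvw : dotInt (v : GolayPt → ℤ) (w : GolayPt → ℤ) = -32) {x : leechLattice}
    (hx : x ∈ set352 v w) (F : Type) [Field F] [Fintype F] (hF : Fintype.card F = 25) :
    Nonempty (↥(MulAction.stabilizer Co0 v ⊓ MulAction.stabilizer Co0 w ⊓
      MulAction.stabilizer Co0 x) ≃* Cfsg.PSU 3 F 5) := by
  obtain ⟨g, hg, hgw⟩ := normal_hs hv hw hvw
  obtain ⟨k, k1, k2, k3⟩ := transitive352_pt (hg ▸ hgw ▸ (smul_mem_set352 g x).2 hx) ptY_mem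
  set S := MulAction.stabilizer Co0 v ⊓ MulAction.stabilizer Co0 w ⊓ MulAction.stabilizer Co0 x
  have hmap : S.map (MulAut.conj (k * g)).toMonoidHom = hStab := by
    have e : ∀ y : leechLattice, MulAction.stabilizer Co0 ((k * g) • y) =
        (MulAction.stabilizer Co0 y).map (MulAut.conj (k * g)).toMonoidHom :=
      fun y => MulAction.stabilizer_smul_eq_stabilizer_map_conj (k * g) y
    have hinj : Function.Injective (MulAut.conj (k * g)).toMonoidHom := (MulAut.conj (k * g)).injective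
    rw [Subgroup.map_inf _ _ _ hinj, Subgroup.map_inf _ _ _ hinj, ← e, ← e, ← e,
      mul_smul, mul_smul, mul_smul, hg, hgw, k1, k2, k3]
    rfl
  obtain ⟨e1⟩ := hStab_equiv_span
  obtain ⟨e2⟩ := psu_equiv_span hF
  exact ⟨((S.equivMapOfInjective _ (MulAut.conj (k * g)).injective).trans
    ((MulEquiv.subgroupCongr hmap).trans e1)).trans e2.symm⟩

end CfsgLib.Leech.U35
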